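import Mathlib
import Cfsg.Agent.Lib.Helper17.ReeTor.Pkgs

set_option autoImplicit false

/-!
# ReeTor packages (AR0) - (AR3): arithmetic of `Q = q ^ 2 - q + 1`, `q = 3 ^ (2 m + 1)`,
`r = 3 ^ (m + 1)`
-/

namespace Cfsg.Agent.Lib.Helper62.ReeTor

/-- `q = 3 u ^ 2`, `r = 3 u` with `u = 3 ^ m ≥ 3` -/
theorem ar_basic (m q r : ℕ) (hm : 1 ≤ m) (hq : q = 3 ^ (2 * m + 1)) (hr : r = 3 ^ (m + 1)) :
    ∃ u : ℕ, 3 ≤ u ∧ q = 3 * u ^ 2 ∧ r = 3 * u := by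
  refine ⟨3 ^ m, ?_, ?_, ?_⟩
  · calc 3 = 3 ^ 1 := by norm_num
      _ ≤ 3 ^ m := Nat.pow_le_pow_right (by norm_num) hm
  · rw [hq]
    ring
  · rw [hr]
    ring

/-- `Q = q ^ 2 - q + 1` is not divisible by `2`, `3`, `5` when `3 ∣ q` -/
theorem ar_ndvd (u Q : ℕ) (hQ : Q + 3 * u ^ 2 = (3 * u ^ 2) ^ 2 + 1) :
    ¬ 2 ∣ Q ∧ ¬ 3 ∣ Q ∧ ¬ 5 ∣ Q := by
  refine ⟨?_, ?_, ?_⟩
  · intro h
    have h0 : ((Q : ℕ) : ZMod 2) = 0 := (ZMod.natCast_eq_zero_iff _ _).mpr h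
    have hc : ((Q : ℕ) : ZMod 2) + ((3 * u ^ 2 : ℕ) : ZMod 2) = ((3 * u ^ 2 : ℕ) : ZMod 2) ^ 2 + 1 := by
      exact_mod_cast congrArg (Nat.cast : ℕ → ZMod 2) hQ
    rw [h0, zero_add] at hc
    have hd : ∀ x : ZMod 2, x ≠ x ^ 2 + 1 := by decide
    exact hd _ hc
  · intro h
    have h0 : ((Q : ℕ) : ZMod 3) = 0 := (ZMod.natCast_eq_zero_iff _ _).mpr h
    have hc : ((Q : ℕ) : ZMod 3) + ((3 * u ^ 2 : ℕ) : ZMod 3) = ((3 * u ^ 2 : ℕ) : ZMod 3) ^ 2 + 1 := by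
      exact_mod_cast congrArg (Nat.cast : ℕ → ZMod 3) hQ
    have h3 : ((3 * u ^ 2 : ℕ) : ZMod 3) = 0 :=
      (ZMod.natCast_eq_zero_iff _ _).mpr (Dvd.intro _ rfl)
    rw [h0, h3] at hc
    revert hc
    decide
  · intro h
    have h0 : ((Q : ℕ) : ZMod 5) = 0 := (ZMod.natCast_eq_zero_iff _ _).mpr h
    have hc : ((Q : ℕ) : ZMod 5) + ((3 * u ^ 2 : ℕ) : ZMod 5) = ((3 * u ^ 2 : ℕ) : ZMod 5) ^ 2 + 1 := by
      exact_mod_cast congrArg (Nat.cast : ℕ → ZMod 5) hQ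
    rw [h0, zero_add] at hc
    have hd : ∀ x : ZMod 5, x ≠ x ^ 2 + 1 := by decide
    exact hd _ hc

theorem pkgAR0 : Cfsg.Agent.Lib.Helper17.ReeTor.PkgAR0 := by
  intro m q r hm hq hr
  obtain ⟨u, hu, hqu, hru⟩ := ar_basic m q r hm hq hr
  have hrq : r < q := by
    rw [hqu, hru]
    nlinarith
  have hqq : q ≤ q ^ 2 := Nat.le_self_pow (by norm_num) q
  have hq1 : 1 ≤ q := by omega
  have hru' : 3 * u ≤ 3 * u ^ 2 := by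
    rw [← hqu, ← hru]
    exact hrq.le
  have hcQ : ((q ^ 2 - q + 1 : ℕ) : ℤ) = (q : ℤ) ^ 2 - q + 1 := by
    push_cast [Nat.cast_sub hqq]
    ring
  have hqz : (q : ℤ) = 3 * (u : ℤ) ^ 2 := by
    rw [hqu]
    push_cast
    ring
  have hrz : (r : ℤ) = 3 * (u : ℤ) := by
    rw [hru]
    push_cast
    ring
  have hprod : q ^ 2 - q + 1 = (q + r + 1) * (q - r + 1) := by
    zify [hqq, hrq.le]
    rw [hqz, hrz]
    ring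
  have hQe : q ^ 2 - q + 1 + 3 * u ^ 2 = (3 * u ^ 2) ^ 2 + 1 := by
    rw [← hqu]
    omega
  obtain ⟨hn2, hn3, hn5⟩ := ar_ndvd u _ hQe
  refine ⟨hprod, hrq, ?_, ?_, ?_, ?_, ?_⟩
  · intro d hd hd1
    by_contra hlt
    have hd7 : d < 7 := by omega
    have hQpos : 0 < q ^ 2 - q + 1 := by omega
    interval_cases d
    · rw [zero_dvd_iff] at hd
      omega
    · exact hd1 rfl
    · exact hn2 hd
    · exact hn3 hd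
    · exact hn2 (dvd_trans (by norm_num) hd)
    · exact hn5 hd
    · exact hn2 (dvd_trans (by norm_num) hd)
  · apply Nat.isCoprime_iff_coprime.mp
    refine ⟨1, -((q : ℤ) - 1), ?_⟩
    rw [hcQ]
    ring
  · apply Nat.isCoprime_iff_coprime.mp
    refine ⟨1, -(q : ℤ), ?_⟩
    rw [hcQ]
    push_cast [Nat.cast_sub hq1]
    ring
  · apply Nat.isCoprime_iff_coprime.mp
    refine ⟨-((u : ℤ) ^ 2), 1 + (u : ℤ) ^ 2 * ((q : ℤ) - 2), ?_⟩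
    rw [hcQ]
    push_cast
    rw [hqz]
    ring
  · apply Nat.isCoprime_iff_coprime.mp
    obtain ⟨e, he⟩ := Nat.even_mul_succ_self u
    have hez : (u : ℤ) * ((u : ℤ) + 1) = 2 * (e : ℤ) := by
      have h1 := congrArg (Nat.cast : ℕ → ℤ) he
      push_cast at h1
      linarith
    refine ⟨1 - 3 * (e : ℤ) * (1 - (u : ℤ)), -(3 * (e : ℤ) * ((u : ℤ) + 1)), ?_⟩
    push_cast [Nat.cast_sub hrq.le]
    rw [hqz, hrz]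
    linear_combination 3 * hez

/-- the order of the group, cast to `ℤ` -/
theorem ar_cast_G (q : ℕ) (hq : 27 ≤ q) :
    ((q ^ 3 * (q ^ 3 + 1) * (q - 1) : ℕ) : ℤ) =
      (q : ℤ) ^ 3 * ((q : ℤ) ^ 2 - 1) * ((q : ℤ) ^ 2 - q + 1) := by
  push_cast [Nat.cast_sub (show 1 ≤ q by omega)]
  ring

/-- the number of elements of order dividing `Q` (times `3`), cast to `ℤ` -/
theorem ar_cast_X (q : ℕ) (hq : 27 ≤ q) :
    ((q ^ 4 * (q ^ 2 - 1) * (q - 2) : ℕ) : ℤ) =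
      (q : ℤ) ^ 3 * ((q : ℤ) ^ 2 - 1) * ((q : ℤ) * ((q : ℤ) - 2)) := by
  push_cast [Nat.cast_sub (show 2 ≤ q by omega), Nat.cast_sub (Nat.one_le_pow 2 q (by omega))]
  ring

theorem ar_q27 (m q : ℕ) (hm : 1 ≤ m) (hq : q = 3 ^ (2 * m + 1)) : 27 ≤ q := by
  rw [hq]
  calc 27 = 3 ^ 3 := by norm_num
    _ ≤ 3 ^ (2 * m + 1) := Nat.pow_le_pow_right (by norm_num) (by omega)

theorem ar_P_pos (q : ℤ) (hq : 27 ≤ q) : 0 < q ^ 3 * (q ^ 2 - 1) :=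
  mul_pos (pow_pos (by linarith) 3) (by nlinarith)

theorem pkgAR2 : Cfsg.Agent.Lib.Helper17.ReeTor.PkgAR2 := by
  intro m q c₁ n₁ j₁ hm hq hc hn1 hn6 hG hE
  have hq27 := ar_q27 m q hm hq
  have hqq : q ≤ q ^ 2 := Nat.le_self_pow (by norm_num) q
  have hqz : (27 : ℤ) ≤ (q : ℤ) := by exact_mod_cast hq27
  have hcz : (c₁ : ℤ) = (q : ℤ) ^ 2 - q + 1 := by
    rw [hc]
    push_cast [Nat.cast_sub hqq]
    ring
  have hc1 : 1 ≤ c₁ := by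
    rw [hc]
    omega
  have hGz : (q : ℤ) ^ 3 * ((q : ℤ) ^ 2 - 1) * ((q : ℤ) ^ 2 - q + 1) = n₁ * c₁ * j₁ := by
    rw [← ar_cast_G q hq27, hG]
    push_cast
    ring
  have hEz : 3 * (((c₁ : ℤ) - 1) * j₁) =
      (q : ℤ) ^ 3 * ((q : ℤ) ^ 2 - 1) * ((q : ℤ) * ((q : ℤ) - 2)) := by
    rw [← ar_cast_X q hq27, ← hE]
    push_cast [Nat.cast_sub hc1]
    ring
  have hP := ar_P_pos (q : ℤ) hqz
  have hQpos : (0 : ℤ) < (q : ℤ) ^ 2 - q + 1 := by nlinarith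
  rw [hcz] at hGz hEz
  have hA : (n₁ : ℤ) * j₁ = (q : ℤ) ^ 3 * ((q : ℤ) ^ 2 - 1) := by
    apply mul_left_cancel₀ hQpos.ne'
    linear_combination (-1 : ℤ) * hGz
  have hj : (j₁ : ℤ) ≠ 0 := by
    intro h0
    rw [h0, mul_zero] at hA
    exact hP.ne hA
  have hB : 3 * (((q : ℤ) ^ 2 - q + 1) - 1) = (n₁ : ℤ) * ((q : ℤ) * ((q : ℤ) - 2)) := by
    apply mul_left_cancel₀ hj
    linear_combination hEz - ((q : ℤ) * ((q : ℤ) - 2)) * hA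
  have hq0 : (q : ℤ) ≠ 0 := by linarith
  have hC : 3 * ((q : ℤ) - 1) = (n₁ : ℤ) * ((q : ℤ) - 2) := by
    apply mul_left_cancel₀ hq0
    linear_combination hB
  interval_cases n₁ <;> push_cast at hC <;> omega

theorem ar3_le (n c j G : ℕ) (hc : 7 ≤ c) (hn : n ≤ 6) (hG : G = n * c * j) :
    G ≤ 7 * ((c - 1) * j) := by
  calc G = n * c * j := hG
    _ ≤ 6 * c * j := Nat.mul_le_mul_right j (Nat.mul_le_mul_right c hn)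
    _ ≤ 7 * (c - 1) * j := Nat.mul_le_mul_right j (by omega)
    _ = 7 * ((c - 1) * j) := by rw [mul_assoc]

theorem ar_X_lt_G (q : ℕ) (hq : 27 ≤ q) :
    q ^ 4 * (q ^ 2 - 1) * (q - 2) < q ^ 3 * (q ^ 3 + 1) * (q - 1) := by
  have hqz : (27 : ℤ) ≤ (q : ℤ) := by exact_mod_cast hq
  have h : ((q ^ 4 * (q ^ 2 - 1) * (q - 2) : ℕ) : ℤ) <
      ((q ^ 3 * (q ^ 3 + 1) * (q - 1) : ℕ) : ℤ) := by
    rw [ar_cast_X q hq, ar_cast_G q hq]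
    apply mul_lt_mul_of_pos_left _ (ar_P_pos (q : ℤ) hqz)
    nlinarith
  exact_mod_cast h

theorem pkgAR3 : Cfsg.Agent.Lib.Helper17.ReeTor.PkgAR3 := by
  intro m q c₁ c₂ c₃ n₁ n₂ n₃ j₁ j₂ j₃ hm hq hc1 hc2 hc3 _ hn1 _ hn2 _ hn3 hG1 hG2 hG3 hE
  have hq27 := ar_q27 m q hm hq
  have hlt := ar_X_lt_G q hq27
  have h1 := ar3_le n₁ c₁ j₁ _ hc1 hn1 hG1
  have h2 := ar3_le n₂ c₂ j₂ _ hc2 hn2 hG2
  have h3 := ar3_le n₃ c₃ j₃ _ hc3 hn3 hG3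
  obtain ⟨G, hGdef⟩ : ∃ G : ℕ, G = q ^ 3 * (q ^ 3 + 1) * (q - 1) := ⟨_, rfl⟩
  obtain ⟨X, hXdef⟩ : ∃ X : ℕ, X = q ^ 4 * (q ^ 2 - 1) * (q - 2) := ⟨_, rfl⟩
  obtain ⟨a₁, ha₁⟩ : ∃ a : ℕ, a = (c₁ - 1) * j₁ := ⟨_, rfl⟩
  obtain ⟨a₂, ha₂⟩ : ∃ a : ℕ, a = (c₂ - 1) * j₂ := ⟨_, rfl⟩
  obtain ⟨a₃, ha₃⟩ : ∃ a : ℕ, a = (c₃ - 1) * j₃ := ⟨_, rfl⟩
  rw [← hGdef, ← hXdef] at hlt
  rw [← hGdef, ← ha₁] at h1
  rw [← hGdef, ← ha₂] at h2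
  rw [← hGdef, ← ha₃] at h3
  rw [← hXdef, ← ha₁, ← ha₂, ← ha₃] at hE
  omega

/-- (AR1) over the integers -/
theorem ar1_core (q r c₁ c₂ n₁ n₂ j₁ j₂ : ℤ) (hq : 27 ≤ q) (hrr : r * r = 3 * q)
    (hc1 : 7 ≤ c₁) (hc2 : 7 ≤ c₂) (hQ : c₁ * c₂ = q ^ 2 - q + 1)
    (hn1 : 1 ≤ n₁) (hn1' : n₁ ≤ 6) (hn2 : 1 ≤ n₂) (hn2' : n₂ ≤ 6)
    (hG1 : q ^ 3 * (q ^ 2 - 1) * (q ^ 2 - q + 1) = n₁ * c₁ * j₁)
    (hG2 : q ^ 3 * (q ^ 2 - 1) * (q ^ 2 - q + 1) = n₂ * c₂ * j₂)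
    (hE : 3 * ((c₁ - 1) * j₁ + (c₂ - 1) * j₂) = q ^ 3 * (q ^ 2 - 1) * (q * (q - 2))) :
    n₁ = 6 ∧ n₂ = 6 ∧
      ((c₁ = q + r + 1 ∧ c₂ = q - r + 1) ∨ (c₁ = q - r + 1 ∧ c₂ = q + r + 1)) := by
  have hP := ar_P_pos q hq
  have hc1' : c₁ ≠ 0 := by linarith
  have hc2' : c₂ ≠ 0 := by linarith
  have hA1 : n₁ * j₁ = q ^ 3 * (q ^ 2 - 1) * c₂ := by
    apply mul_left_cancel₀ hc1'
    linear_combination (-1 : ℤ) * hG1 - (q ^ 3 * (q ^ 2 - 1)) * hQ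
  have hA2 : n₂ * j₂ = q ^ 3 * (q ^ 2 - 1) * c₁ := by
    apply mul_left_cancel₀ hc2'
    linear_combination (-1 : ℤ) * hG2 - (q ^ 3 * (q ^ 2 - 1)) * hQ
  have hE2 : 3 * ((c₁ - 1) * n₂ * c₂ + (c₂ - 1) * n₁ * c₁) = q * (q - 2) * n₁ * n₂ := by
    apply mul_left_cancel₀ hP.ne'
    linear_combination (n₁ * n₂) * hE - 3 * (c₁ - 1) * n₂ * hA1 - 3 * (c₂ - 1) * n₁ * hA2
  have hKey : (q ^ 2 - q + 1) * (3 * n₁ + 3 * n₂ - n₁ * n₂) + n₁ * n₂ * (q + 1) =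
      3 * (n₁ * c₁ + n₂ * c₂) := by
    linear_combination hE2 - 3 * (n₁ + n₂) * hQ
  have hB : 7 * (c₁ + c₂) ≤ (q ^ 2 - q + 1) + 49 := by
    have h := mul_nonneg (sub_nonneg.mpr hc1) (sub_nonneg.mpr hc2)
    have h' : (c₁ - 7) * (c₂ - 7) = c₁ * c₂ - 7 * c₁ - 7 * c₂ + 49 := by ring
    rw [h', hQ] at h
    linarith
  have hQ703 : 703 ≤ q ^ 2 - q + 1 := by nlinarith
  obtain ⟨Q, hQdef⟩ : ∃ Q : ℤ, Q = q ^ 2 - q + 1 := ⟨_, rfl⟩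
  rw [← hQdef] at hKey hB hQ703 hQ
  have h66 : n₁ = 6 ∧ n₂ = 6 := by
    by_contra hne
    have hκ : 3 ≤ 3 * n₁ + 3 * n₂ - n₁ * n₂ := by
      interval_cases n₁ <;> interval_cases n₂ <;>
        first
        | (exfalso; exact hne ⟨rfl, rfl⟩)
        | norm_num
    have h18 : 3 * (n₁ * c₁ + n₂ * c₂) ≤ 18 * (c₁ + c₂) := by
      have e1 := mul_nonneg (sub_nonneg.mpr hn1') (by linarith : (0 : ℤ) ≤ c₁)
      have e2 := mul_nonneg (sub_nonneg.mpr hn2') (by linarith : (0 : ℤ) ≤ c₂)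
      linarith
    have hnn : 0 ≤ n₁ * n₂ * (q + 1) :=
      mul_nonneg (mul_nonneg (by linarith) (by linarith)) (by linarith)
    have hQκ : Q * 3 ≤ Q * (3 * n₁ + 3 * n₂ - n₁ * n₂) :=
      mul_le_mul_of_nonneg_left hκ (by linarith)
    linarith
  obtain ⟨h1, h2⟩ := h66
  refine ⟨h1, h2, ?_⟩
  subst h1 h2
  have hS : c₁ + c₂ = 2 * (q + 1) := by linarith
  have hroot : (c₁ - (q + 1 - r)) * (c₁ - (q + 1 + r)) = 0 := by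
    rw [hQdef] at hQ
    linear_combination (-1 : ℤ) * hQ + c₁ * hS - hrr
  rcases mul_eq_zero.mp hroot with h | h
  · right
    constructor <;> linarith
  · left
    constructor <;> linarith

theorem pkgAR1 : Cfsg.Agent.Lib.Helper17.ReeTor.PkgAR1 := by
  intro m q r c₁ c₂ n₁ n₂ j₁ j₂ hm hq hr hc1 hc2 hQ hn1 hn1' hn2 hn2' hG1 hG2 hE
  obtain ⟨u, hu, hqu, hru⟩ := ar_basic m q r hm hq hr
  have hq27 := ar_q27 m q hm hq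
  have hrq : r ≤ q := by
    rw [hqu, hru]
    nlinarith
  have hrr : (r : ℤ) * r = 3 * q := by
    rw [hqu, hru]
    push_cast
    ring
  have hqq : q ≤ q ^ 2 := Nat.le_self_pow (by norm_num) q
  have hQz : (c₁ : ℤ) * c₂ = (q : ℤ) ^ 2 - q + 1 := by
    have h := congrArg (Nat.cast : ℕ → ℤ) hQ
    push_cast [Nat.cast_sub hqq] at h
    linarith
  have hG1z : (q : ℤ) ^ 3 * ((q : ℤ) ^ 2 - 1) * ((q : ℤ) ^ 2 - q + 1) = n₁ * c₁ * j₁ := by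
    rw [← ar_cast_G q hq27, hG1]
    push_cast
    ring
  have hG2z : (q : ℤ) ^ 3 * ((q : ℤ) ^ 2 - 1) * ((q : ℤ) ^ 2 - q + 1) = n₂ * c₂ * j₂ := by
    rw [← ar_cast_G q hq27, hG2]
    push_cast
    ring
  have hEz : 3 * (((c₁ : ℤ) - 1) * j₁ + ((c₂ : ℤ) - 1) * j₂) =
      (q : ℤ) ^ 3 * ((q : ℤ) ^ 2 - 1) * ((q : ℤ) * ((q : ℤ) - 2)) := by
    rw [← ar_cast_X q hq27, ← hE]
    push_cast [Nat.cast_sub (show 1 ≤ c₁ by omega), Nat.cast_sub (show 1 ≤ c₂ by omega)]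
    ring
  obtain ⟨h1, h2, h3⟩ := ar1_core (q : ℤ) r c₁ c₂ n₁ n₂ j₁ j₂ (by exact_mod_cast hq27) hrr
    (by exact_mod_cast hc1) (by exact_mod_cast hc2) hQz (by exact_mod_cast hn1)
    (by exact_mod_cast hn1') (by exact_mod_cast hn2) (by exact_mod_cast hn2') hG1z hG2z hEz
  refine ⟨by exact_mod_cast h1, by exact_mod_cast h2, ?_⟩
  rcases h3 with ⟨ha, hb⟩ | ⟨ha, hb⟩
  · left
    constructor <;> omega
  · right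
    constructor <;> omega

end Cfsg.Agent.Lib.Helper62.ReeTor
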