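import Mathlib
import Cfsg.Agent.Lib.Helper17.ReeTor.Pkgs
import Cfsg.Agent.Lib.Helper17.ReeF2

set_option autoImplicit false

/-!
# ReeTor package (LA1): the centraliser of an element of prime order `p` in the `7 × 7`
matrices over a finite field is commutative (`p` a primitive prime divisor of `q ^ 6 - 1`)

The element `z` has a cyclic vector `v`; a matrix commuting with `z` is determined by its
value at `v`.
-/

universe u

namespace Cfsg.Agent.Lib.Helper62.ReeTor

open Cfsg.Agent.Lib.Helper17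

section

variable {K : Type u} [Field K] [Fintype K]

/-- `p` is invertible in `K` when it does not divide `|K|` -/
theorem natCast_ne_zero_of_not_dvd (p : ℕ) (hp : p.Prime) (hq : ¬ p ∣ Fintype.card K) :
    (p : K) ≠ 0 := by
  intro h0
  have hcop : Nat.Coprime p (Fintype.card K) := (Nat.Prime.coprime_iff_not_dvd hp).mpr hq
  have h1 : IsCoprime (p : ℤ) (Fintype.card K : ℤ) := Nat.isCoprime_iff_coprime.mpr hcop
  obtain ⟨x, y, hxy⟩ := h1
  have h2 : ((x * (p : ℤ) + y * (Fintype.card K : ℤ) : ℤ) : K) = ((1 : ℤ) : K) := by rw [hxy]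
  push_cast at h2
  rw [h0, FiniteField.cast_card_eq_zero, mul_zero, mul_zero, add_zero] at h2
  exact zero_ne_one h2

/-- the number of points of a `z`-invariant subspace is congruent to the number of its fixed
points -/
theorem inv_sub_modEq (p : ℕ) [Fact p.Prime] (z : Matrix (Fin 7) (Fin 7) K) (hz : z ^ p = 1)
    (S : Submodule K (Fin 7 → K)) (hinv : ∀ v ∈ S, z.mulVec v ∈ S) :
    Fintype.card K ^ Module.finrank K ↥S ≡
      Fintype.card K ^ Module.finrank K ↥(S ⊓ fixSp z) [MOD p] := by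
  classical
  obtain ⟨f, hfdef⟩ : ∃ f : Function.End ↥S,
      f = fun v => ⟨z.mulVec v.1, hinv v.1 v.2⟩ := ⟨_, rfl⟩
  have hfv : ∀ w : ↥S, ((f w : ↥S) : Fin 7 → K) = z.mulVec w.1 := by
    intro w
    rw [hfdef]
  have hfk : ∀ k : ℕ, ∀ v : ↥S, ((f ^ k) v : Fin 7 → K) = (z ^ k).mulVec v.1 := by
    intro k
    induction k with
    | zero =>
      intro v
      rw [pow_zero, pow_zero, Matrix.one_mulVec]
      rfl
    | succ k ih =>
      intro v
      rw [pow_succ, pow_succ]
      show (((f ^ k) (f v) : ↥S) : Fin 7 → K) = _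
      rw [ih, hfdef, Matrix.mulVec_mulVec]
  have hf : f ^ p ^ 1 = 1 := by
    funext v
    apply Subtype.ext
    rw [pow_one, hfk, hz, Matrix.one_mulVec]
    rfl
  have hmod := Equiv.Perm.card_fixedPoints_modEq (p := p) (n := 1) hf
  rw [Fintype.card_eq_nat_card, Fintype.card_eq_nat_card] at hmod
  have hF : Nat.card ↥(Function.fixedPoints f) = Nat.card ↥(S ⊓ fixSp z) := by
    apply Nat.card_congr
    refine
      { toFun := fun v => ⟨v.1.1, Submodule.mem_inf.mpr ⟨v.1.2, (mem_fixSp z _).mpr ?_⟩⟩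
        invFun := fun w => ⟨⟨w.1, (Submodule.mem_inf.mp w.2).1⟩, ?_⟩
        left_inv := fun v => rfl
        right_inv := fun w => rfl }
    · have h1 : f v.1 = v.1 := v.2
      rw [← hfv, h1]
    · show f ⟨w.1, (Submodule.mem_inf.mp w.2).1⟩ = ⟨w.1, (Submodule.mem_inf.mp w.2).1⟩
      apply Subtype.ext
      rw [hfv]
      exact (mem_fixSp z _).mp (Submodule.mem_inf.mp w.2).2
  rw [hF, card_submodule, card_submodule] at hmod
  exact hmod

omit [Fintype K] in
/-- powers of `z` fix the fixed vectors of `z` -/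
theorem pow_mulVec_of_mem_fixSp (z : Matrix (Fin 7) (Fin 7) K) (y : Fin 7 → K)
    (hy : y ∈ fixSp z) (k : ℕ) : (z ^ k).mulVec y = y := by
  induction k with
  | zero => rw [pow_zero, Matrix.one_mulVec]
  | succ k ih =>
    rw [pow_succ, ← Matrix.mulVec_mulVec, (mem_fixSp z y).mp hy, ih]

omit [Fintype K] in
/-- `psum p z` multiplies the fixed vectors of `z` by `p` -/
theorem psum_mulVec_of_mem_fixSp (p : ℕ) [Fact p.Prime] (z : Matrix (Fin 7) (Fin 7) K)
    (y : Fin 7 → K) (hy : y ∈ fixSp z) : (psum p z).mulVec y = (p : K) • y := by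
  unfold psum
  rw [Matrix.sum_mulVec]
  simp_rw [pow_mulVec_of_mem_fixSp z y hy]
  rw [Finset.sum_const, Finset.card_univ, ZMod.card, Nat.cast_smul_eq_nsmul]

/-- an element of order `p` of `GL₇(q)`, `p` a primitive prime divisor of `q ^ 6 - 1`, has a
cyclic vector -/
theorem exists_cyclic (p : ℕ) [Fact p.Prime] (hq : ¬ p ∣ Fintype.card K)
    (hp6 : ∀ i, 0 < i → i ≤ 7 → p ∣ Fintype.card K ^ i - 1 → i = 6)
    (z : Matrix (Fin 7) (Fin 7) K) (hz : z ^ p = 1) (hz1 : z ≠ 1) :
    ∃ v : Fin 7 → K,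
      Submodule.span K (Set.range fun i : ℕ => (z ^ i).mulVec v) = ⊤ := by
  classical
  have hp : p.Prime := Fact.out
  have hpK : (p : K) ≠ 0 := natCast_ne_zero_of_not_dvd p hp hq
  have hL := fixSp_finrank p hq hp6 z hz hz1
  -- a vector outside the fixed line
  have hx : ∃ x : Fin 7 → K, x ∉ fixSp z := by
    by_contra hcon
    push Not at hcon
    have htop : fixSp z = ⊤ := by
      rw [eq_top_iff]
      intro v _
      exact hcon v
    rw [htop, finrank_top, Module.finrank_fin_fun] at hL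
    omega
  obtain ⟨x, hx⟩ := hx
  -- a nonzero fixed vector
  have hy : ∃ y : ↥(fixSp z), y ≠ 0 := by
    apply (Module.finrank_pos_iff_exists_ne_zero (R := K)).mp
    rw [hL]
    exact Nat.one_pos
  obtain ⟨⟨y, hyL⟩, hy0⟩ := hy
  have hy0' : y ≠ 0 := by
    intro h
    apply hy0
    apply Subtype.ext
    exact h
  have hpy : (psum p z).mulVec y ≠ 0 := by
    rw [psum_mulVec_of_mem_fixSp p z y hyL]
    exact smul_ne_zero hpK hy0'
  -- a vector outside the fixed line and outside the kernel of `psum p z`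
  have hv : ∃ v : Fin 7 → K, v ∉ fixSp z ∧ (psum p z).mulVec v ≠ 0 := by
    by_cases hpx : (psum p z).mulVec x = 0
    · refine ⟨x + y, ?_, ?_⟩
      · intro h
        apply hx
        have h1 := Submodule.sub_mem _ h hyL
        rwa [add_sub_cancel_right] at h1
      · rw [Matrix.mulVec_add, hpx, zero_add]
        exact hpy
    · exact ⟨x, hx, hpx⟩
  obtain ⟨v, hvL, hvp⟩ := hv
  refine ⟨v, ?_⟩
  obtain ⟨S, hSdef⟩ : ∃ S : Submodule K (Fin 7 → K),
      S = Submodule.span K (Set.range fun i : ℕ => (z ^ i).mulVec v) := ⟨_, rfl⟩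
  rw [← hSdef]
  have hgen : ∀ i : ℕ, (z ^ i).mulVec v ∈ S := by
    intro i
    rw [hSdef]
    exact Submodule.subset_span ⟨i, rfl⟩
  have hvS : v ∈ S := by
    have h1 := hgen 0
    rwa [pow_zero, Matrix.one_mulVec] at h1
  have hinv : ∀ w ∈ S, z.mulVec w ∈ S := by
    have h1 : S ≤ S.comap (Matrix.mulVecLin z) := by
      rw [hSdef]
      apply Submodule.span_le.mpr
      rintro _ ⟨i, rfl⟩
      show z.mulVec ((z ^ i).mulVec v) ∈ Submodule.span K (Set.range fun i : ℕ => (z ^ i).mulVec v)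
      rw [Matrix.mulVec_mulVec, ← pow_succ']
      exact Submodule.subset_span ⟨i + 1, rfl⟩
    intro w hw
    exact h1 hw
  have hpS : (psum p z).mulVec v ∈ S := by
    unfold psum
    rw [Matrix.sum_mulVec]
    exact Submodule.sum_mem _ fun i _ => hgen i.val
  have hmod := inv_sub_modEq p z hz S hinv
  have hed : Module.finrank K ↥(S ⊓ fixSp z) ≤ Module.finrank K ↥S :=
    Submodule.finrank_mono inf_le_left
  have he1 : Module.finrank K ↥(S ⊓ fixSp z) ≤ 1 := by
    rw [← hL]
    exact Submodule.finrank_mono inf_le_right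
  have hd7 : Module.finrank K ↥S ≤ 7 := by
    have h1 := Submodule.finrank_le S
    rwa [Module.finrank_fin_fun] at h1
  have hdvd := dvd_pow_sub_one_of_modEq _ p _ _ hp hq hed hmod
  have hne : Module.finrank K ↥S ≠ Module.finrank K ↥(S ⊓ fixSp z) := by
    intro h
    have h1 : S ⊓ fixSp z = S := Submodule.eq_of_le_of_finrank_eq inf_le_left h.symm
    apply hvL
    have h2 : S ≤ fixSp z := by
      rw [← h1]
      exact inf_le_right
    exact h2 hvS
  have h6 := hp6 (Module.finrank K ↥S - Module.finrank K ↥(S ⊓ fixSp z)) (by omega) (by omega)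
    hdvd
  by_cases he0 : Module.finrank K ↥(S ⊓ fixSp z) = 0
  · exfalso
    have hbot : S ⊓ fixSp z = ⊥ := Submodule.finrank_eq_zero.mp he0
    apply hvp
    have h1 : (psum p z).mulVec v ∈ S ⊓ fixSp z :=
      Submodule.mem_inf.mpr ⟨hpS, psum_mem_fixSp p z hz v⟩
    rw [hbot] at h1
    exact (Submodule.mem_bot K).mp h1
  · apply Submodule.eq_top_of_finrank_eq
    rw [Module.finrank_fin_fun]
    omega

omit [Fintype K] in
/-- a matrix commuting with `z` and killing a cyclic vector of `z` is zero -/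
theorem eq_zero_of_cyclic (z m : Matrix (Fin 7) (Fin 7) K) (v : Fin 7 → K)
    (hv : Submodule.span K (Set.range fun i : ℕ => (z ^ i).mulVec v) = ⊤)
    (hmz : m * z = z * m) (hmv : m.mulVec v = 0) : m = 0 := by
  have hc : ∀ i : ℕ, m * z ^ i = z ^ i * m := by
    intro i
    induction i with
    | zero => rw [pow_zero, mul_one, one_mul]
    | succ i ih => rw [pow_succ, ← mul_assoc, ih, mul_assoc, hmz, mul_assoc]
  have h1 : Submodule.span K (Set.range fun i : ℕ => (z ^ i).mulVec v) ≤
      LinearMap.ker (Matrix.mulVecLin m) := by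
    apply Submodule.span_le.mpr
    rintro _ ⟨i, rfl⟩
    show Matrix.mulVecLin m ((z ^ i).mulVec v) = 0
    rw [Matrix.mulVecLin_apply, Matrix.mulVec_mulVec, hc, ← Matrix.mulVec_mulVec, hmv,
      Matrix.mulVec_zero]
  rw [hv] at h1
  apply Matrix.mulVec_injective
  funext w
  have h2 : w ∈ LinearMap.ker (Matrix.mulVecLin m) := h1 Submodule.mem_top
  have h3 : Matrix.mulVecLin m w = 0 := h2
  rw [Matrix.mulVecLin_apply] at h3
  rw [h3, Matrix.zero_mulVec]

end

theorem pkgLA1 : Cfsg.Agent.Lib.Helper17.ReeTor.PkgLA1.{u} := by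
  intro K _ _ p _ hq hp6 z a b hz hz1 haz hbz
  classical
  obtain ⟨v, hv⟩ := exists_cyclic p hq hp6 z hz hz1
  -- every vector is `m v` for a matrix `m` commuting with `a`, `b` and `z`
  have hrep : ∀ w ∈ Submodule.span K (Set.range fun i : ℕ => (z ^ i).mulVec v),
      ∃ m : Matrix (Fin 7) (Fin 7) K, m * a = a * m ∧ m * b = b * m ∧ m * z = z * m ∧
        m.mulVec v = w := by
    intro w hw
    induction hw using Submodule.span_induction with
    | mem w hw =>
      obtain ⟨i, rfl⟩ := hw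
      have hc : ∀ c : Matrix (Fin 7) (Fin 7) K, c * z = z * c → z ^ i * c = c * z ^ i := by
        intro c hcz
        induction i with
        | zero => rw [pow_zero, mul_one, one_mul]
        | succ i ih => rw [pow_succ, mul_assoc, ← hcz, ← mul_assoc, ih, mul_assoc]
      exact ⟨z ^ i, hc a haz, hc b hbz, by rw [← pow_succ, ← pow_succ'], rfl⟩
    | zero =>
      exact ⟨0, by rw [zero_mul, mul_zero], by rw [zero_mul, mul_zero],
        by rw [zero_mul, mul_zero], Matrix.zero_mulVec v⟩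
    | add w₁ w₂ _ _ ih₁ ih₂ =>
      obtain ⟨m₁, h1a, h1b, h1z, h1v⟩ := ih₁
      obtain ⟨m₂, h2a, h2b, h2z, h2v⟩ := ih₂
      exact ⟨m₁ + m₂, by rw [add_mul, mul_add, h1a, h2a], by rw [add_mul, mul_add, h1b, h2b],
        by rw [add_mul, mul_add, h1z, h2z], by rw [Matrix.add_mulVec, h1v, h2v]⟩
    | smul c w _ ih =>
      obtain ⟨m, h1a, h1b, h1z, h1v⟩ := ih
      exact ⟨c • m, by rw [smul_mul_assoc, mul_smul_comm, h1a],
        by rw [smul_mul_assoc, mul_smul_comm, h1b], by rw [smul_mul_assoc, mul_smul_comm, h1z],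
        by rw [Matrix.smul_mulVec, h1v]⟩
  obtain ⟨m, hma, hmb, hmz, hmv⟩ := hrep (a.mulVec v) (by rw [hv]; exact Submodule.mem_top)
  have h0 : a - m = 0 := by
    apply eq_zero_of_cyclic z (a - m) v hv
    · rw [sub_mul, mul_sub, haz, hmz]
    · rw [Matrix.sub_mulVec, hmv, sub_self]
  have ham : a = m := sub_eq_zero.mp h0
  rw [ham]
  exact hmb

end Cfsg.Agent.Lib.Helper62.ReeTor
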