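import Mathlib
import Cfsg.Agent.Lib.Helper17.ReeTor.Pkgs

set_option autoImplicit false

/-!
# ReeTor package (ORB): at most six powers `y ^ k` of an element of prime order with
`y ^ (k ^ 6) = y`
-/

universe u

namespace Cfsg.Agent.Lib.Helper62.ReeTor

theorem pkgOrb : Cfsg.Agent.Lib.Helper17.ReeTor.PkgOrb.{u} := by
  intro G _ _ p _ y S hy hS
  classical
  choose! k hk1 hk2 using hS
  obtain ⟨T, hTdef⟩ : ∃ T : Finset (ZMod p),
      T = (Polynomial.nthRoots 6 (1 : ZMod p)).toFinset := ⟨_, rfl⟩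
  have hT : T.card ≤ 6 := by
    rw [hTdef]
    exact (Multiset.toFinset_card_le _).trans (Polynomial.card_nthRoots 6 1)
  have hmem : ∀ w : ↥S, ((k w.1 : ℕ) : ZMod p) ∈ T := by
    intro w
    rw [hTdef, Multiset.mem_toFinset, Polynomial.mem_nthRoots (by norm_num)]
    have h1 := hk2 w.1 w.2
    have h2 : y ^ (k w.1 ^ 6) = y ^ 1 := by rw [h1, pow_one]
    rw [pow_eq_pow_iff_modEq, hy] at h2
    have h3 := (ZMod.natCast_eq_natCast_iff _ _ _).mpr h2
    push_cast at h3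
    exact h3
  have hinj : Function.Injective (fun w : ↥S => (⟨((k w.1 : ℕ) : ZMod p), hmem w⟩ : ↥T)) := by
    intro w1 w2 h
    have h1 : ((k w1.1 : ℕ) : ZMod p) = ((k w2.1 : ℕ) : ZMod p) := congrArg Subtype.val h
    rw [ZMod.natCast_eq_natCast_iff] at h1
    apply Subtype.ext
    rw [hk1 w1.1 w1.2, hk1 w2.1 w2.2, pow_eq_pow_iff_modEq, hy]
    exact h1
  calc Nat.card ↥S ≤ Nat.card ↥T := Nat.card_le_card_of_injective _ hinj
    _ = T.card := by rw [Nat.card_eq_fintype_card, Fintype.card_coe]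
    _ ≤ 6 := hT

end Cfsg.Agent.Lib.Helper62.ReeTor
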