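import Mathlib
import Cfsg.Agent.Lib.Helper17.ReeTor.Pkgs

set_option autoImplicit false

/-!
# ReeTor package (TI): counting the union of the conjugates of a set whose fusion is
controlled by a subgroup
-/

universe u

namespace Cfsg.Agent.Lib.Helper62.ReeTor

theorem pkgTI : Cfsg.Agent.Lib.Helper17.ReeTor.PkgTI.{u} := by
  intro G _ _ M X h1 h2
  classical
  rw [← Nat.card_prod, ← Nat.card_prod]
  have hch : ∀ y : {y : G // ∃ g : G, ∃ x ∈ X, y = g * x * g⁻¹},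
      ∃ r : G × G, r.2 ∈ X ∧ y.1 = r.1 * r.2 * r.1⁻¹ := by
    rintro ⟨y, g, x, hx, rfl⟩
    exact ⟨(g, x), hx, rfl⟩
  choose r hrX hr using hch
  have hmem : ∀ (x : ↥X) (g : G),
      ∃ g' : G, ∃ x' ∈ X, g * (x : G) * g⁻¹ = g' * x' * g'⁻¹ := fun x g => ⟨g, x, x.2, rfl⟩
  apply Nat.card_congr
  refine
    { toFun := fun yn => (⟨(yn.2 : G)⁻¹ * (r yn.1).2 * yn.2, ?_⟩, (r yn.1).1 * yn.2)
      invFun := fun xg => (⟨xg.2 * xg.1 * xg.2⁻¹, hmem xg.1 xg.2⟩,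
        ⟨(r ⟨xg.2 * xg.1 * xg.2⁻¹, hmem xg.1 xg.2⟩).1⁻¹ * xg.2, ?_⟩)
      left_inv := ?_
      right_inv := ?_ }
  · have h3 := h1 (yn.2 : G)⁻¹ (inv_mem yn.2.2) _ (hrX yn.1)
    rwa [inv_inv] at h3
  · obtain ⟨Y, hYdef⟩ : ∃ Y : {y : G // ∃ g : G, ∃ x ∈ X, y = g * x * g⁻¹},
        Y = ⟨xg.2 * xg.1 * xg.2⁻¹, hmem xg.1 xg.2⟩ := ⟨_, rfl⟩
    rw [← hYdef]
    have hY : (Y : G) = xg.2 * xg.1 * xg.2⁻¹ := by rw [hYdef]
    apply h2 _ xg.1.1 xg.1.2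
    have h4 : (r Y).1⁻¹ * xg.2 * (xg.1 : G) * ((r Y).1⁻¹ * xg.2)⁻¹ = (r Y).2 := by
      have h5 := hr Y
      rw [hY] at h5
      calc (r Y).1⁻¹ * xg.2 * (xg.1 : G) * ((r Y).1⁻¹ * xg.2)⁻¹
          = (r Y).1⁻¹ * (xg.2 * (xg.1 : G) * xg.2⁻¹) * (r Y).1 := by group
        _ = (r Y).1⁻¹ * ((r Y).1 * (r Y).2 * (r Y).1⁻¹) * (r Y).1 := by rw [h5]
        _ = (r Y).2 := by group
    rw [h4]
    exact hrX Y
  · rintro ⟨y, n⟩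
    have hy : (r y).1 * (n : G) * ((n : G)⁻¹ * (r y).2 * n) * ((r y).1 * (n : G))⁻¹ = y.1 := by
      rw [hr y]
      group
    apply Prod.ext
    · apply Subtype.ext
      exact hy
    · apply Subtype.ext
      show (r ⟨(r y).1 * (n : G) * ((n : G)⁻¹ * (r y).2 * n) * ((r y).1 * (n : G))⁻¹, _⟩).1⁻¹ *
        ((r y).1 * (n : G)) = n
      have h6 : (⟨(r y).1 * (n : G) * ((n : G)⁻¹ * (r y).2 * n) * ((r y).1 * (n : G))⁻¹,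
          hmem ⟨(n : G)⁻¹ * (r y).2 * n, by
            have h3 := h1 (n : G)⁻¹ (inv_mem n.2) _ (hrX y)
            rwa [inv_inv] at h3⟩ ((r y).1 * (n : G))⟩ :
          {y : G // ∃ g : G, ∃ x ∈ X, y = g * x * g⁻¹}) = y := Subtype.ext hy
      rw [h6]
      group
  · rintro ⟨x, g⟩
    obtain ⟨Y, hYdef⟩ : ∃ Y : {y : G // ∃ g : G, ∃ x ∈ X, y = g * x * g⁻¹},
        Y = ⟨g * x * g⁻¹, hmem x g⟩ := ⟨_, rfl⟩
    have hY : (Y : G) = g * x * g⁻¹ := by rw [hYdef]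
    have h5 := hr Y
    rw [hY] at h5
    apply Prod.ext
    · apply Subtype.ext
      show ((r ⟨g * x * g⁻¹, hmem x g⟩).1⁻¹ * g)⁻¹ * (r ⟨g * x * g⁻¹, hmem x g⟩).2 *
        ((r ⟨g * x * g⁻¹, hmem x g⟩).1⁻¹ * g) = x
      rw [← hYdef]
      calc ((r Y).1⁻¹ * g)⁻¹ * (r Y).2 * ((r Y).1⁻¹ * g)
          = g⁻¹ * ((r Y).1 * (r Y).2 * (r Y).1⁻¹) * g := by group
        _ = g⁻¹ * (g * x * g⁻¹) * g := by rw [← h5]
        _ = x := by group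
    · show (r ⟨g * x * g⁻¹, hmem x g⟩).1 * ((r ⟨g * x * g⁻¹, hmem x g⟩).1⁻¹ * g) = g
      group

end Cfsg.Agent.Lib.Helper62.ReeTor
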